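import Mathlib.RingTheory.QuasiFinite.Basic
import Mathlib.RingTheory.Localization.Free
import Mathlib.RingTheory.Finiteness.ModuleFinitePresentation
import Mathlib.RingTheory.Flat.EquationalCriterion
import Mathlib.RingTheory.Spectrum.Prime.FreeLocus
import Mathlib.RingTheory.LocalRing.ResidueField.Fiber

/-!
# Sections of flat quasi-finite algebras

A nonzero element of a flat quasi-finite algebra of finite presentation lies, after localizing on the
base, in a free module over an ideal of the base.
-/

set_option autoImplicit false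

universe u

open TensorProduct

namespace Groth.Agent.LQFTors

variable (A B : Type u) [CommRing A] [CommRing B] [Algebra A B]

/-- An element vanishing in a fibre is, up to a factor outside the prime, in the extended prime. -/
theorem exists_smul_mem_map_of_tmul_eq_zero (p : Ideal A) [p.IsPrime] (y : B)
    (hy : (1 : p.ResidueField) ⊗ₜ[A] y = 0) :
    ∃ t ∉ p, t • y ∈ p.map (algebraMap A B) := by
  let A' := A ⧸ p
  let B' := B ⧸ p.map (algebraMap A B)
  let : Algebra A' B' := Ideal.Quotient.algebraQuotientOfLEComap Ideal.le_comap_map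
  have : IsScalarTower A A' B' := IsScalarTower.of_algebraMap_eq fun _ => rfl
  let F : p.ResidueField ⊗[A] B →ₗ[A] p.ResidueField ⊗[A'] B' :=
    TensorProduct.lift
      (LinearMap.mk₂ A (fun k b => k ⊗ₜ[A'] Ideal.Quotient.mk (p.map (algebraMap A B)) b)
        (fun k k' b => add_tmul k k' _) (fun c k b => (smul_tmul' c k _).symm)
        (fun k b b' => by simp only [map_add, tmul_add]) (fun c k b => by
          rw [show Ideal.Quotient.mk (p.map (algebraMap A B)) (c • b) = c • Ideal.Quotient.mk (p.map (algebraMap A B)) b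
            from rfl, ← IsScalarTower.algebraMap_smul A' c (Ideal.Quotient.mk (p.map (algebraMap A B)) b),
            tmul_smul, IsScalarTower.algebraMap_smul]))
  have h0 : TensorProduct.mk A' p.ResidueField B' 1 (Ideal.Quotient.mk _ y) = 0 := by
    have := congrArg F hy
    rw [map_zero] at this
    exact this
  obtain ⟨⟨t', ht'⟩, ht⟩ := (IsLocalizedModule.eq_zero_iff (nonZeroDivisors A')
    (TensorProduct.mk A' p.ResidueField B' 1)).1 h0
  obtain ⟨t, rfl⟩ := Ideal.Quotient.mk_surjective t'
  refine ⟨t, fun h => nonZeroDivisors.ne_zero ht' (Ideal.Quotient.eq_zero_iff_mem.2 h), ?_⟩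
  rw [← Ideal.Quotient.eq_zero_iff_mem]
  exact ht

/-- Up to localization, the quotient by a finitely generated ideal killing `g` is integral. -/
theorem exists_fg_ideal_integral [Algebra.FiniteType A B] [Algebra.QuasiFinite A B] {g : B} (hg : g ≠ 0) :
    ∃ a : A, (∀ n : ℕ, a ^ n • g ≠ 0) ∧ ∃ J : Ideal A, J.FG ∧ (∀ j ∈ J, j • g = 0) ∧
      ∃ s : Finset B, Algebra.adjoin A (s : Set B) = ⊤ ∧ ∀ x ∈ s, ∃ P : Polynomial A,
        P.leadingCoeff = a ∧ Polynomial.aeval x P ∈ J.map (algebraMap A B) := by
  classical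
  let I : Ideal A := LinearMap.ker (LinearMap.toSpanSingleton A B g)
  have hI : ∀ c, c ∈ I ↔ c • g = 0 := fun c => LinearMap.mem_ker
  have hI1 : I ≠ ⊤ := fun h => hg (by rw [← one_smul A g, ← hI, h]; trivial)
  obtain ⟨p, hp⟩ := Ideal.nonempty_minimalPrimes hI1
  have := hp.1.1
  -- elements of `p` are nilpotent near `p`, modulo the annihilator
  have hnil : ∀ c ∈ p, ∃ t ∉ p, ∃ n : ℕ, t * c ^ n ∈ I := by
    intro c hc
    by_contra! hcon
    obtain ⟨q, hq, hIq, hdis⟩ := Ideal.exists_le_prime_disjoint I (p.primeCompl ⊔ Submonoid.powers c) (by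
      rw [Set.disjoint_left]
      rintro x hx hxS
      obtain ⟨t, ht, _, ⟨n, rfl⟩, rfl⟩ := Submonoid.mem_sup.1 hxS
      exact hcon t ht n hx)
    have hqp : q ≤ p := fun x hx => by
      by_contra hxp
      exact Set.disjoint_left.1 hdis hx (Submonoid.mem_sup_left hxp)
    exact Set.disjoint_left.1 hdis (hp.2 ⟨hq, hIq⟩ hqp hc)
      (Submonoid.mem_sup_right (Submonoid.mem_powers c))
  have hmap : ∀ y ∈ p.map (algebraMap A B), ∃ t ∉ p, ∃ J : Ideal A, J.FG ∧ J ≤ I ∧
      ∃ N : ℕ, t • y ^ N ∈ J.map (algebraMap A B) := by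
    intro y hy
    obtain ⟨T, hT, hyT⟩ := Submodule.mem_span_finite_of_mem_span hy
    choose! u hu n hn using hnil
    have hTc : ∀ z ∈ T, ∃ c ∈ p, algebraMap A B c = z := fun z hz => hT hz
    choose! c hc hcz using hTc
    let t := ∏ z ∈ T, u (c z)
    let J : Ideal A := Ideal.span (T.image fun z => u (c z) * c z ^ n (c z) : Finset A)
    have ht : t ∉ p := fun h => by
      obtain ⟨z, hz, hz'⟩ := (Ideal.IsPrime.prod_mem_iff (p := p)).1 h
      exact hu _ (hc z hz) hz'
    let K : Ideal B := (J.map (algebraMap A B)).colon {algebraMap A B t}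
    have hrad : Ideal.span (T : Set B) ≤ K.radical := by
      rw [Ideal.span_le]
      intro z hz
      refine ⟨n (c z), ?_⟩
      rw [Submodule.mem_colon_singleton, smul_eq_mul]
      suffices algebraMap A B (c z) ^ n (c z) * algebraMap A B t ∈ J.map (algebraMap A B) by rwa [hcz z hz] at this
      rw [← map_pow, ← map_mul]
      refine Ideal.mem_map_of_mem _ ?_
      have : u (c z) * c z ^ n (c z) ∈ J :=
        Ideal.subset_span (by simpa using ⟨z, hz, rfl⟩)
      rw [show t = u (c z) * ∏ w ∈ T.erase z, u (c w) from (Finset.mul_prod_erase T (fun w => u (c w)) hz).symm,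
        ← mul_assoc, mul_comm (c z ^ _)]
      exact J.mul_mem_right _ this
    obtain ⟨N, hN⟩ := hrad hyT
    refine ⟨t, ht, J, ⟨_, rfl⟩, Ideal.span_le.2 fun x hx => ?_, N, ?_⟩
    · simp only [Finset.coe_image, Set.mem_image] at hx
      obtain ⟨z, hz, rfl⟩ := hx
      exact hn _ (hc z hz)
    · rw [Submodule.mem_colon_singleton, smul_eq_mul] at hN
      rwa [Algebra.smul_def, mul_comm]
  -- an algebraic relation for each element
  have hrel : ∀ x : B, ∃ P : Polynomial A, P.leadingCoeff ∉ p ∧ ∃ J : Ideal A, J.FG ∧ J ≤ I ∧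
      Polynomial.aeval x P ∈ J.map (algebraMap A B) := by
    intro x
    obtain ⟨P₀, hP₀, hx⟩ := IsIntegral.of_finite p.ResidueField ((1 : p.ResidueField) ⊗ₜ[A] x)
    let P₁ := IsLocalization.integerNormalization (nonZeroDivisors (A ⧸ p)) P₀
    obtain ⟨b, hb, hP₁⟩ := IsLocalization.integerNormalization_spec (nonZeroDivisors (A ⧸ p)) P₀
    obtain ⟨P, hP, hPdeg⟩ := Polynomial.mem_lifts_and_degree_eq (f := Ideal.Quotient.mk p) (p := P₁)
      (Polynomial.lifts_iff_coeff_lifts _ |>.2 fun i => Ideal.Quotient.mk_surjective _)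
    have hmapP : P.map (algebraMap A p.ResidueField) = b • P₀ := by
      rw [IsScalarTower.algebraMap_eq A (A ⧸ p) p.ResidueField, ← Polynomial.map_map]
      exact (congrArg (Polynomial.map _) hP).trans hP₁
    have hb0 : algebraMap (A ⧸ p) p.ResidueField b ≠ 0 := fun h =>
      nonZeroDivisors.ne_zero hb (IsFractionRing.injective (A ⧸ p) p.ResidueField (h.trans (map_zero _).symm))
    have hP1 : P₁.leadingCoeff ≠ 0 := by
      intro h
      rw [Polynomial.leadingCoeff_eq_zero] at h
      have h' : b • P₀ = 0 := by rw [← hP₁]; simp [show P₁ = 0 from h, P₁]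
      rw [← algebraMap_smul p.ResidueField b P₀, smul_eq_zero] at h'
      exact h'.elim hb0 hP₀.ne_zero
    have hlc : P.leadingCoeff ∉ p := by
      rw [← Ideal.Quotient.eq_zero_iff_mem]
      have : Ideal.Quotient.mk p P.leadingCoeff = P₁.leadingCoeff := by
        rw [Polynomial.leadingCoeff, Polynomial.leadingCoeff, ← Polynomial.coeff_map, hP,
          Polynomial.natDegree_eq_natDegree hPdeg]
      rwa [this]
    have hy : (1 : p.ResidueField) ⊗ₜ[A] Polynomial.aeval x P = 0 := by
      have e : Polynomial.aeval ((1 : p.ResidueField) ⊗ₜ[A] x) P = (1 : p.ResidueField) ⊗ₜ[A] Polynomial.aeval x P :=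
        Polynomial.aeval_algHom_apply (Algebra.TensorProduct.includeRight (R := A) (A := p.ResidueField) (B := B)) x P
      rw [← e, ← Polynomial.aeval_map_algebraMap p.ResidueField, hmapP, ← algebraMap_smul p.ResidueField b P₀,
        map_smul, show Polynomial.aeval ((1 : p.ResidueField) ⊗ₜ[A] x) P₀ = 0 from hx, smul_zero]
    obtain ⟨t, ht, hty⟩ := exists_smul_mem_map_of_tmul_eq_zero A B p _ hy
    obtain ⟨t', ht', J, hJ, hJI, N, hN⟩ := hmap _ hty
    refine ⟨Polynomial.C t' * (Polynomial.C t * P) ^ N, ?_, J, hJ, hJI, ?_⟩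
    · have h1 : P.leadingCoeff ^ N * t ^ N * t' ∉ p := fun h => by
        rcases (inferInstance : p.IsPrime).mem_or_mem h with h | h
        · rcases (inferInstance : p.IsPrime).mem_or_mem h with h | h
          exacts [hlc ((inferInstance : p.IsPrime).mem_of_pow_mem _ h),
            ht ((inferInstance : p.IsPrime).mem_of_pow_mem _ h)]
        · exact ht' h
      rw [mul_pow, ← map_pow, ← mul_assoc, ← map_mul]
      have h0 : (P ^ N).leadingCoeff = P.leadingCoeff ^ N := Polynomial.leadingCoeff_pow' fun h => h1 (by simp [h])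
      rw [Polynomial.leadingCoeff_mul' (by
        rw [Polynomial.leadingCoeff_C, h0]; exact fun h => h1 (by
          rw [show P.leadingCoeff ^ N * t ^ N * t' = t' * t ^ N * P.leadingCoeff ^ N by ring, h]; exact p.zero_mem)),
        Polynomial.leadingCoeff_C, h0]
      rwa [show t' * t ^ N * P.leadingCoeff ^ N = P.leadingCoeff ^ N * t ^ N * t' by ring]
    · simpa [Algebra.smul_def] using hN
  obtain ⟨s, hs⟩ := (‹Algebra.FiniteType A B›).out
  choose P hlc J hJfg hJI hP using hrel
  let a := ∏ x ∈ s, (P x).leadingCoeff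
  have ha : a ∉ p := fun h => by
    obtain ⟨z, hz, hz'⟩ := (Ideal.IsPrime.prod_mem_iff (p := p)).1 h
    exact hlc z hz'
  refine ⟨a, fun n h => ha ((inferInstance : p.IsPrime).mem_of_pow_mem n (hp.1.2 ((hI _).2 h))),
    s.sup J, Submodule.fg_finset_sup s J fun x _ => hJfg x,
    fun j hj => (hI j).1 (Finset.sup_le (fun x _ => hJI x) hj), s, hs, fun x hx => ?_⟩
  refine ⟨Polynomial.C (∏ y ∈ s.erase x, (P y).leadingCoeff) * P x, ?_, ?_⟩
  · rw [Polynomial.leadingCoeff_mul' (by
      rw [Polynomial.leadingCoeff_C, mul_comm, Finset.mul_prod_erase s (fun y => (P y).leadingCoeff) hx]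
      exact fun h => ha (show a ∈ p by rw [show a = 0 from h]; exact p.zero_mem)),
      Polynomial.leadingCoeff_C, mul_comm]
    exact Finset.mul_prod_erase s (fun y => (P y).leadingCoeff) hx
  · rw [map_mul]
    exact Ideal.mul_mem_left _ _ (Ideal.map_mono (Finset.le_sup hx) (hP x))

/-- A finite flat quotient has, up to localization, lifted bases. -/
theorem exists_basis_lift [Module.Flat A B] [Algebra.FinitePresentation A B] {g : B} (hg : g ≠ 0)
    (J : Ideal A) (hJ : J.FG) (hJg : ∀ j ∈ J, j • g = 0) [Module.Finite A (B ⧸ J.map (algebraMap A B))] :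
    ∃ a : A, (∀ n : ℕ, a ^ n • g ≠ 0) ∧ ∃ (r : ℕ) (b : Fin r → B),
      (∀ x : B, ∃ (n : ℕ) (c : Fin r → A), a ^ n • x - ∑ i, c i • b i ∈ J.map (algebraMap A B)) ∧
      ∀ c : Fin r → A, ∑ i, c i • b i ∈ J.map (algebraMap A B) → ∀ i, ∃ n : ℕ, a ^ n * c i ∈ J := by
  classical
  let I : Ideal A := LinearMap.ker (LinearMap.toSpanSingleton A B g)
  have hI : ∀ c, c ∈ I ↔ c • g = 0 := fun c => LinearMap.mem_ker
  have hI1 : I ≠ ⊤ := fun h => hg (by rw [← one_smul A g, ← hI, h]; trivial)
  obtain ⟨p, hp, hIp⟩ := Ideal.exists_le_maximal I hI1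
  have hJp : J ≤ p := fun j hj => hIp ((hI j).2 (hJg j hj))
  let A' := A ⧸ J
  let B' := B ⧸ J.map (algebraMap A B)
  have : Module.Flat A' B' :=
    Module.Flat.of_linearEquiv (Algebra.TensorProduct.quotIdealMapEquivQuotTensor B J).toLinearEquiv
  have : Algebra.FinitePresentation A B' := .quotient (hJ.map _)
  have : Algebra.FinitePresentation A' B' := .of_restrict_scalars_finitePresentation (R := A) (A := A') (B := B')
  have : Module.Finite A' B' := Module.Finite.of_restrictScalars_finite A A' B'
  have : Module.FinitePresentation A' B' := .of_finite_of_finitePresentation A' B'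
  let q : Ideal A' := p.map (Ideal.Quotient.mk J)
  have : q.IsPrime := Ideal.map_isPrime_of_surjective Ideal.Quotient.mk_surjective (by rwa [Ideal.mk_ker])
  have : Module.Free (Localization.AtPrime q) (LocalizedModule q.primeCompl B') := by
    have : Module.Finite (Localization.AtPrime q) (LocalizedModule q.primeCompl B') :=
      Module.Finite.of_isLocalizedModule q.primeCompl (LocalizedModule.mkLinearMap q.primeCompl B')
    have : Module.Flat (Localization.AtPrime q) (LocalizedModule q.primeCompl B') :=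
      Module.Flat.localizedModule q.primeCompl
    exact Module.free_of_flat_of_isLocalRing
  obtain ⟨a', ha', hfree, -⟩ := Module.FinitePresentation.exists_free_localizedModule_powers q.primeCompl
    (LocalizedModule.mkLinearMap q.primeCompl B') (Localization.AtPrime q)
  obtain ⟨a, rfl⟩ := Ideal.Quotient.mk_surjective a'
  have ha : a ∉ p := fun h => ha' (Ideal.mem_map_of_mem _ h)
  let M := Submonoid.powers (Ideal.Quotient.mk J a)
  have : Module.Finite (Localization M) (LocalizedModule M B') :=
    Module.Finite.of_isLocalizedModule M (LocalizedModule.mkLinearMap M B')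
  have : Nontrivial (Localization M) := by
    refine ⟨⟨0, 1, fun h => ?_⟩⟩
    have h' : algebraMap A' (Localization M) 1 = algebraMap A' (Localization M) 0 := by
      rw [map_one, map_zero, h]
    obtain ⟨⟨_, n, rfl⟩, hn⟩ := (IsLocalization.eq_iff_exists M _).1 h'
    simp only [mul_one, mul_zero] at hn
    exact ha' ((inferInstance : q.IsPrime).mem_of_pow_mem n (hn ▸ q.zero_mem))
  let b' := Module.finBasis (Localization M) (LocalizedModule M B')
  choose yb hyb using fun i => IsLocalizedModule.surj M (LocalizedModule.mkLinearMap M B') (b' i)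
  choose b hb using fun i => Ideal.Quotient.mk_surjective (yb i).1
  refine ⟨a, fun n h => ha ((inferInstance : p.IsPrime).mem_of_pow_mem n (hIp ((hI _).2 h))), _, b, ?_, ?_⟩
  · intro x
    let coeff : Fin _ → Localization M := fun i => b'.repr (LocalizedModule.mkLinearMap M B' (Ideal.Quotient.mk _ x)) i *
      IsLocalization.mk' (Localization M) 1 (yb i).2
    obtain ⟨d, hd⟩ := IsLocalization.exist_integer_multiples_of_finite M coeff
    choose c' hc' using hd
    choose c hc using fun i => Ideal.Quotient.mk_surjective (c' i)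
    have key : LocalizedModule.mkLinearMap M B' ((d : A') • Ideal.Quotient.mk _ x) =
        LocalizedModule.mkLinearMap M B' (∑ i, c' i • (yb i).1) := by
      rw [map_smul, map_sum]
      conv_lhs => rw [← b'.sum_repr (LocalizedModule.mkLinearMap M B' _), Finset.smul_sum]
      refine Finset.sum_congr rfl fun i _ => ?_
      rw [map_smul, ← hyb i, ← algebraMap_smul (Localization M) (c' i), ← algebraMap_smul (Localization M) (d : A'),
        hc' i, Submonoid.smul_def, ← algebraMap_smul (Localization M) ((yb i).2 : A'), smul_smul, smul_smul,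
        Algebra.smul_def]
      congr 1
      simp only [coeff]
      rw [mul_assoc, mul_assoc, IsLocalization.mk'_spec, map_one, mul_one]
    obtain ⟨⟨_, n, rfl⟩, hn⟩ := (IsLocalizedModule.eq_iff_exists M (LocalizedModule.mkLinearMap M B')).1 key
    obtain ⟨m, hm⟩ := d.2
    refine ⟨n + m, fun i => a ^ n * c i, ?_⟩
    rw [← Ideal.Quotient.eq, map_sum]
    have e : ∀ (v : A) (z : B), Ideal.Quotient.mk (J.map (algebraMap A B)) (v • z) =
        Ideal.Quotient.mk J v • Ideal.Quotient.mk (J.map (algebraMap A B)) z := fun v z => rfl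
    simp only [Submonoid.smul_def, ← hm, Finset.smul_sum, smul_smul] at hn
    simp only [e, map_mul, map_pow, hc, hb, pow_add]
    exact hn
  · intro c hc i
    have h0 : ∑ i, Ideal.Quotient.mk J (c i) • (Ideal.Quotient.mk (J.map (algebraMap A B)) (b i)) = 0 := by
      rw [← Ideal.Quotient.eq_zero_iff_mem, map_sum] at hc
      exact hc
    have h1 : ∑ i, (algebraMap A' (Localization M) (Ideal.Quotient.mk J (c i)) *
        algebraMap A' (Localization M) (yb i).2) • b' i = 0 := by
      have := congrArg (LocalizedModule.mkLinearMap M B') h0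
      rw [map_zero, map_sum] at this
      rw [← this]
      refine Finset.sum_congr rfl fun i _ => ?_
      rw [← smul_smul, algebraMap_smul, algebraMap_smul, ← Submonoid.smul_def, hyb i, ← map_smul, hb]
    have h2 := Fintype.linearIndependent_iff.1 b'.linearIndependent _ h1 i
    rw [← map_mul] at h2
    obtain ⟨⟨_, n, rfl⟩, hn⟩ := (IsLocalization.map_eq_zero_iff M _ _).1 h2
    obtain ⟨m, hm⟩ := (yb i).2.2
    refine ⟨n + m, ?_⟩
    rw [← Ideal.Quotient.eq_zero_iff_mem, map_mul, map_pow, pow_add]
    rw [← hn, show ((yb i).2 : A') = Ideal.Quotient.mk J a ^ m from hm.symm]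
    ring

/-- The conclusion, once a lifted basis is available. -/
theorem exists_injective_of_basis_lift [Module.Flat A B] {g : B} (hg : g ≠ 0) (J : Ideal A) (hJ : J.FG)
    (hJg : ∀ j ∈ J, j • g = 0) {r : ℕ} (b : Fin r → B)
    (hspan : ∀ x : B, ∃ c : Fin r → A, x - ∑ i, c i • b i ∈ J.map (algebraMap A B))
    (hind : ∀ c : Fin r → A, ∑ i, c i • b i ∈ J.map (algebraMap A B) → ∀ i, c i ∈ J) :
    ∃ (F : Ideal A) (r' : ℕ), 0 < r' ∧ ∃ φ : (Fin r' → F) →ₗ[A] B, Function.Injective φ ∧ g ∈ LinearMap.range φ := by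
  classical
  obtain ⟨T, rfl⟩ := hJ
  let δ : A →ₗ[A] (T → A) := LinearMap.pi fun j => LinearMap.toSpanSingleton A A j.1
  let F : Ideal A := LinearMap.ker δ
  have hF : ∀ f ∈ F, ∀ j ∈ Ideal.span (T : Set A), f * j = 0 := fun f hf j hj => by
    induction hj using Submodule.span_induction with
    | mem x hx => simpa [δ] using congrFun (LinearMap.mem_ker.1 hf) ⟨x, hx⟩
    | zero => exact mul_zero _
    | add x y _ _ hx hy => rw [mul_add, hx, hy, add_zero]
    | smul c x _ hx => rw [smul_eq_mul, mul_left_comm, hx, mul_zero]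
  let φ : (Fin r → F) →ₗ[A] B :=
    ∑ i, (LinearMap.toSpanSingleton A B (b i) ∘ₗ F.subtype) ∘ₗ LinearMap.proj i
  have hφ : ∀ x, φ x = ∑ i, (x i : A) • b i := fun x => by simp [φ]
  -- `F • B` is contained in the image
  have hFB : ∀ f ∈ F, ∀ x : B, f • x ∈ LinearMap.range φ := fun f hf x => by
    obtain ⟨c, hc⟩ := hspan x
    refine ⟨fun i => ⟨c i * f, F.mul_mem_left _ hf⟩, ?_⟩
    have h0 : f • (x - ∑ i, c i • b i) = 0 := by
      have : ∀ z ∈ (Ideal.span (T : Set A)).map (algebraMap A B), f • z = 0 := by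
        intro z hz
        induction hz using Submodule.span_induction with
        | mem y hy =>
          obtain ⟨j, hj, rfl⟩ := hy
          rw [Algebra.smul_def, ← map_mul, hF f hf j hj, map_zero]
        | zero => exact smul_zero _
        | add y z _ _ hy hz => rw [smul_add, hy, hz, add_zero]
        | smul c y _ hy => rw [smul_eq_mul, Algebra.smul_def, mul_left_comm, ← Algebra.smul_def, hy, mul_zero]
      exact this _ hc
    rw [smul_sub, sub_eq_zero, Finset.smul_sum] at h0
    rw [hφ, h0]
    exact Finset.sum_congr rfl fun i _ => by simp [smul_smul, mul_comm]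
  suffices h : Function.Injective φ ∧ g ∈ LinearMap.range φ by
    refine ⟨F, r, Nat.pos_of_ne_zero fun hr => hg ?_, φ, h⟩
    obtain ⟨x, hx⟩ := h.2
    subst hr
    rw [← hx, hφ, Fin.sum_univ_zero]
  refine ⟨?_, ?_⟩
  · rw [injective_iff_map_eq_zero]
    intro x hx
    rw [hφ] at hx
    obtain ⟨k, a, y, hby, hxa⟩ := Module.Flat.isTrivialRelation_of_sum_smul_eq_zero hx
    choose c hc using fun j => hspan (y j)
    funext l
    have key : ∀ i, ∀ l, (∑ j, a i j * c j l) - (if i = l then 1 else 0) ∈ Ideal.span (T : Set A) := by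
      intro i
      refine hind _ ?_
      simp only [sub_smul, Finset.sum_sub_distrib, ite_smul, one_smul, zero_smul, Finset.sum_ite_eq, Finset.mem_univ,
        if_true, Finset.sum_smul]
      rw [Finset.sum_comm, hby i, ← Finset.sum_sub_distrib]
      refine Submodule.sum_mem _ fun j _ => ?_
      rw [show ∑ l, (a i j * c j l) • b l = a i j • ∑ l, c j l • b l by simp [Finset.smul_sum, smul_smul],
        ← smul_sub]
      exact Submodule.smul_of_tower_mem _ _ (by rw [← neg_sub]; exact neg_mem (hc j))
    refine Subtype.ext ?_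
    calc (x l : A) = ∑ i, (x i : A) * (if i = l then 1 else 0) := by simp
      _ = ∑ i, (x i : A) * ∑ j, a i j * c j l := Finset.sum_congr rfl fun i _ => by
        refine (sub_eq_zero.1 ?_).symm
        rw [← mul_sub]
        exact hF _ (x i).2 _ (key i l)
      _ = ∑ j, (∑ i, (x i : A) * a i j) * c j l := by
        simp only [Finset.mul_sum, Finset.sum_mul, mul_assoc]
        rw [Finset.sum_comm]
      _ = 0 := Finset.sum_eq_zero fun j _ => by rw [hxa j, zero_mul]
  · have hexact : Function.Exact F.subtype δ := LinearMap.exact_subtype_ker_map δ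
    have h0 : δ.rTensor B ((1 : A) ⊗ₜ[A] g) = 0 := by
      have e : δ 1 = ∑ j : T, j.1 • (Pi.single j 1 : T → A) := by
        ext j
        simp [δ, Pi.single_apply]
      rw [LinearMap.rTensor_tmul, e, TensorProduct.sum_tmul]
      refine Finset.sum_eq_zero fun j _ => ?_
      rw [TensorProduct.smul_tmul, hJg j.1 (Ideal.subset_span j.2), TensorProduct.tmul_zero]
    obtain ⟨z, hz⟩ := (Module.Flat.rTensor_exact B hexact _).1 h0
    have hg' : g = TensorProduct.lid A B (F.subtype.rTensor B z) := by rw [hz]; simp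
    rw [hg']
    clear hz hg'
    induction z using TensorProduct.induction_on with
    | zero => simp
    | tmul f x => simpa using hFB f f.2 x
    | add z w hz hw => rw [map_add, map_add]; exact add_mem hz hw

end Groth.Agent.LQFTors
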