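import Groth.Agent.LQFTorsLib.Algebra

/-!
# Transfer of the auxiliary data to a localization of the base
-/

set_option autoImplicit false

universe u

namespace Groth.Agent.LQFTors

variable (A B A₁ B₁ : Type u) [CommRing A] [CommRing B] [CommRing A₁] [CommRing B₁] [Algebra A B] [Algebra A₁ B₁]
  [Algebra A A₁] [Algebra B B₁]

theorem algebraMap_smul_of_square
    (hsq : ∀ c, algebraMap A₁ B₁ (algebraMap A A₁ c) = algebraMap B B₁ (algebraMap A B c)) (c : A) (x : B) :
    algebraMap B B₁ (c • x) = algebraMap A A₁ c • algebraMap B B₁ x := by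
  rw [Algebra.smul_def, Algebra.smul_def, map_mul, hsq]

theorem map_mem_of_square
    (hsq : ∀ c, algebraMap A₁ B₁ (algebraMap A A₁ c) = algebraMap B B₁ (algebraMap A B c))
    (J : Ideal A) {x : B} (hx : x ∈ J.map (algebraMap A B)) :
    algebraMap B B₁ x ∈ (J.map (algebraMap A A₁)).map (algebraMap A₁ B₁) := by
  rw [Ideal.map_map, show (algebraMap A₁ B₁).comp (algebraMap A A₁) = (algebraMap B B₁).comp (algebraMap A B)
    from RingHom.ext hsq, ← Ideal.map_map]
  exact Ideal.mem_map_of_mem _ hx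

theorem transfer_annihilated
    (hsq : ∀ c, algebraMap A₁ B₁ (algebraMap A A₁ c) = algebraMap B B₁ (algebraMap A B c))
    (J : Ideal A) {g : B} (hJg : ∀ j ∈ J, j • g = 0) :
    ∀ j ∈ J.map (algebraMap A A₁), j • algebraMap B B₁ g = 0 := by
  intro j hj
  induction hj using Submodule.span_induction with
  | mem x hx =>
    obtain ⟨c, hc, rfl⟩ := hx
    rw [← algebraMap_smul_of_square A B A₁ B₁ hsq, hJg c hc, map_zero]
  | zero => exact zero_smul _ _
  | add x y _ _ hx hy => rw [add_smul, hx, hy, add_zero]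
  | smul c x _ hx => rw [smul_eq_mul, mul_smul, hx, smul_zero]

theorem transfer_ne_zero (a : A) [IsLocalization.Away (algebraMap A B a) B₁] {g : B}
    (hg : ∀ n : ℕ, a ^ n • g ≠ 0) : algebraMap B B₁ g ≠ 0 := by
  intro h
  obtain ⟨⟨_, n, rfl⟩, hn⟩ := (IsLocalization.map_eq_zero_iff (Submonoid.powers (algebraMap A B a)) B₁ _).1 h
  exact hg n (by rw [Algebra.smul_def, map_pow]; exact hn)

theorem transfer_finite (a : A) [IsLocalization.Away a A₁] [IsLocalization.Away (algebraMap A B a) B₁]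
    (hsq : ∀ c, algebraMap A₁ B₁ (algebraMap A A₁ c) = algebraMap B B₁ (algebraMap A B c))
    (J : Ideal A) (s : Finset B) (hs : Algebra.adjoin A (s : Set B) = ⊤)
    (hP : ∀ x ∈ s, ∃ P : Polynomial A, P.leadingCoeff = a ∧ Polynomial.aeval x P ∈ J.map (algebraMap A B)) :
    Module.Finite A₁ (B₁ ⧸ (J.map (algebraMap A A₁)).map (algebraMap A₁ B₁)) := by
  set K := (J.map (algebraMap A A₁)).map (algebraMap A₁ B₁)
  let π : B₁ →ₐ[A₁] B₁ ⧸ K := Ideal.Quotient.mkₐ A₁ K
  let e : B → B₁ ⧸ K := fun x => π (algebraMap B B₁ x)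
  have hint : ∀ x ∈ s, IsIntegral A₁ (e x) := by
    intro x hx
    obtain ⟨P, hlc, hPx⟩ := hP x hx
    obtain ⟨u, hu⟩ := IsLocalization.Away.algebraMap_isUnit (S := A₁) a
    have h0 : Polynomial.aeval (e x) (P.map (algebraMap A A₁)) = 0 := by
      show Polynomial.aeval (π (algebraMap B B₁ x)) _ = 0
      rw [Polynomial.aeval_algHom_apply]
      refine Ideal.Quotient.eq_zero_iff_mem.2 ?_
      rw [Polynomial.aeval_def, Polynomial.eval₂_map, show (algebraMap A₁ B₁).comp (algebraMap A A₁) =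
        (algebraMap B B₁).comp (algebraMap A B) from RingHom.ext hsq, ← Polynomial.hom_eval₂, ← Polynomial.aeval_def]
      exact map_mem_of_square A B A₁ B₁ hsq J hPx
    refine ⟨Polynomial.C (↑u⁻¹ : A₁) * P.map (algebraMap A A₁), ?_, ?_⟩
    · rcases subsingleton_or_nontrivial A₁ with _ | _
      · exact Subsingleton.elim _ _
      have hne : algebraMap A A₁ P.leadingCoeff ≠ 0 := by rw [hlc, ← hu]; exact u.ne_zero
      refine Polynomial.monic_C_mul_of_mul_leadingCoeff_eq_one ?_
      rw [Polynomial.leadingCoeff_map_of_leadingCoeff_ne_zero _ hne, hlc, ← hu, Units.inv_mul]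
    · rw [← Polynomial.aeval_def, map_mul, h0, mul_zero]
  have hadj : Algebra.adjoin A₁ (e '' s) = ⊤ := by
    refine top_unique fun z _ => ?_
    have hmem : ∀ x : B, e x ∈ Algebra.adjoin A₁ (e '' s) := fun x => by
      have hx : x ∈ Algebra.adjoin A (s : Set B) := by rw [hs]; trivial
      induction hx using Algebra.adjoin_induction with
      | mem y hy => exact Algebra.subset_adjoin ⟨y, hy, rfl⟩
      | algebraMap c =>
        show π (algebraMap B B₁ (algebraMap A B c)) ∈ _
        rw [← hsq, AlgHom.commutes]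
        exact Subalgebra.algebraMap_mem _ _
      | add y y' _ _ hy hy' => simp only [e, map_add] at hy hy' ⊢; exact add_mem hy hy'
      | mul y y' _ _ hy hy' => simp only [e, map_mul] at hy hy' ⊢; exact mul_mem hy hy'
    obtain ⟨z, rfl⟩ := Ideal.Quotient.mk_surjective z
    obtain ⟨⟨x, ⟨_, n, rfl⟩⟩, hx⟩ := IsLocalization.surj (Submonoid.powers (algebraMap A B a)) z
    obtain ⟨u, hu⟩ := (IsLocalization.Away.algebraMap_isUnit (S := A₁) a).pow n
    have hz : z = algebraMap A₁ B₁ ↑u⁻¹ * algebraMap B B₁ x := by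
      rw [← hx, show algebraMap B B₁ ((algebraMap A B a) ^ n) = algebraMap A₁ B₁ (u : A₁) by
        rw [map_pow, ← hsq, hu, map_pow], mul_left_comm, ← map_mul, Units.inv_mul, map_one, mul_one]
    show π z ∈ _
    rw [hz, map_mul, AlgHom.commutes]
    exact mul_mem (Subalgebra.algebraMap_mem _ _) (hmem x)
  refine ⟨?_⟩
  rw [← Algebra.top_toSubmodule, ← hadj]
  exact fg_adjoin_of_finite (s.finite_toSet.image _) (by rintro _ ⟨x, hx, rfl⟩; exact hint x hx)

theorem transfer_basis (a : A) [IsLocalization.Away a A₁] [IsLocalization.Away (algebraMap A B a) B₁]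
    (hsq : ∀ c, algebraMap A₁ B₁ (algebraMap A A₁ c) = algebraMap B B₁ (algebraMap A B c))
    (J : Ideal A) {r : ℕ} (b : Fin r → B)
    (hspan : ∀ x : B, ∃ (n : ℕ) (c : Fin r → A), a ^ n • x - ∑ i, c i • b i ∈ J.map (algebraMap A B))
    (hind : ∀ c : Fin r → A, ∑ i, c i • b i ∈ J.map (algebraMap A B) → ∀ i, ∃ n : ℕ, a ^ n * c i ∈ J) :
    (∀ y : B₁, ∃ c : Fin r → A₁, y - ∑ i, c i • algebraMap B B₁ (b i) ∈
        (J.map (algebraMap A A₁)).map (algebraMap A₁ B₁)) ∧
      ∀ c : Fin r → A₁, ∑ i, c i • algebraMap B B₁ (b i) ∈ (J.map (algebraMap A A₁)).map (algebraMap A₁ B₁) →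
        ∀ i, c i ∈ J.map (algebraMap A A₁) := by
  classical
  set K := (J.map (algebraMap A A₁)).map (algebraMap A₁ B₁)
  have hua : ∀ n : ℕ, IsUnit (algebraMap A A₁ (a ^ n)) := fun n => by
    rw [map_pow]; exact (IsLocalization.Away.algebraMap_isUnit a).pow n
  refine ⟨fun y => ?_, fun c hc i => ?_⟩
  · obtain ⟨⟨x, ⟨_, m, rfl⟩⟩, hx⟩ := IsLocalization.surj (Submonoid.powers (algebraMap A B a)) y
    obtain ⟨n, c, hc⟩ := hspan x
    obtain ⟨u, hu⟩ := hua (n + m)
    refine ⟨fun i => ↑u⁻¹ * algebraMap A A₁ (c i), ?_⟩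
    have h1 := map_mem_of_square A B A₁ B₁ hsq J hc
    rw [map_sub, map_sum] at h1
    simp only [algebraMap_smul_of_square A B A₁ B₁ hsq] at h1
    have h2 := Submodule.smul_of_tower_mem K (↑u⁻¹ : A₁) h1
    rw [smul_sub, Finset.smul_sum] at h2
    simp only [smul_smul] at h2
    convert h2 using 2
    have hx' : algebraMap A₁ B₁ (algebraMap A A₁ (a ^ m)) * y = algebraMap B B₁ x := by
      rw [hsq, map_pow, mul_comm]; exact hx
    rw [Algebra.smul_def, ← hx', ← mul_assoc, ← map_mul, mul_assoc, ← map_mul (algebraMap A A₁), ← pow_add, ← hu,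
      Units.inv_mul, map_one, one_mul]
  · obtain ⟨⟨_, m, rfl⟩, hm⟩ := IsLocalization.exist_integer_multiples_of_finite (Submonoid.powers a) c
    choose c' hc'' using hm
    have hc' : ∀ i, algebraMap A A₁ (c' i) = algebraMap A A₁ (a ^ m) * c i := fun i => by
      rw [hc'' i, Algebra.smul_def]
    have h0 : algebraMap B B₁ (∑ j, c' j • b j) ∈ (J.map (algebraMap A B)).map (algebraMap B B₁) := by
      rw [Ideal.map_map, show (algebraMap B B₁).comp (algebraMap A B) = (algebraMap A₁ B₁).comp (algebraMap A A₁)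
        from (RingHom.ext hsq).symm, ← Ideal.map_map, map_sum]
      have := Submodule.smul_of_tower_mem K (algebraMap A A₁ (a ^ m)) hc
      rw [Finset.smul_sum] at this
      convert this using 2 with j _
      rw [algebraMap_smul_of_square A B A₁ B₁ hsq, hc', smul_smul]
    obtain ⟨⟨⟨z, hz⟩, ⟨_, k, rfl⟩⟩, hk⟩ :=
      (IsLocalization.mem_map_algebraMap_iff (Submonoid.powers (algebraMap A B a)) B₁).1 h0
    rw [← map_mul] at hk
    obtain ⟨⟨_, l, rfl⟩, hl⟩ := (IsLocalization.eq_iff_exists (Submonoid.powers (algebraMap A B a)) B₁).1 hk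
    have h1 : ∑ j, (a ^ (l + k) * c' j) • b j ∈ J.map (algebraMap A B) := by
      have e : ∑ j, (a ^ (l + k) * c' j) • b j =
          (algebraMap A B a) ^ l * ((∑ j, c' j • b j) * (algebraMap A B a) ^ k) := by
        simp only [Finset.sum_mul, Finset.mul_sum, Algebra.smul_def, map_mul, map_pow, pow_add]
        exact Finset.sum_congr rfl fun j _ => by ring
      rw [e, hl]
      exact Ideal.mul_mem_left _ _ hz
    obtain ⟨n, hn⟩ := hind _ h1 i
    have h2 : algebraMap A A₁ (a ^ n * (a ^ (l + k) * c' i)) ∈ J.map (algebraMap A A₁) := Ideal.mem_map_of_mem _ hn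
    rw [map_mul, map_mul, hc', ← mul_assoc, ← mul_assoc, ← map_mul, ← map_mul, ← pow_add, ← pow_add,
      Ideal.unit_mul_mem_iff_mem _ (hua _)] at h2
    exact h2

end Groth.Agent.LQFTors
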